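import Groth.Agent.L03.GeomRegular
import Groth.Agent.S0564
import Mathlib.AlgebraicGeometry.Morphisms.Smooth
import Mathlib.AlgebraicGeometry.IdealSheaf.Subscheme
import Mathlib.RingTheory.Localization.BaseChange

/-!
# Smooth morphisms preserve regularity of local rings, stalks of closed subschemes
-/

set_option autoImplicit false
set_option linter.style.haveILetI false
set_option backward.isDefEq.respectTransparency false
set_option backward.isDefEq.respectTransparency.types false

universe u

open CategoryTheory AlgebraicGeometry TopologicalSpace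
open scoped TensorProduct

namespace Groth.L11.SmRegular

/-- A local ring of a smooth algebra is regular if the local ring of the base below it is. -/
theorem isRegularLocalRing_of_smooth (A B : Type u) [CommRing A] [CommRing B] [Algebra A B]
    [Algebra.Smooth A B] (p : Ideal B) [p.IsPrime]
    [IsRegularLocalRing (Localization.AtPrime (p.comap (algebraMap A B)))] :
    IsRegularLocalRing (Localization.AtPrime p) := by
  let q := p.comap (algebraMap A B)
  let Aq := Localization.AtPrime q
  let M := Algebra.algebraMapSubmonoid B q.primeCompl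
  let Bq := Localization M
  haveI : Algebra.IsPushout A Aq B Bq :=
    .symm <| Algebra.isPushout_of_isLocalization q.primeCompl _ _ _
  haveI : Algebra.Smooth Aq Bq := .of_equiv (Algebra.IsPushout.equiv A Aq B Bq)
  haveI : IsRegularRing Aq := isRegularRing_iff.2 fun r _ => Groth.Agent.S0564.result Aq r
  haveI : IsRegularRing Bq := Groth.L03.GeomRegular.isRegularRing_of_smooth Aq Bq
  have hdisj : Disjoint (M : Set B) p := Set.disjoint_left.mpr fun b hb hbp => by
    obtain ⟨a, ha, rfl⟩ := hb
    exact ha hbp
  let P : Ideal Bq := p.map (algebraMap B Bq)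
  haveI : P.IsPrime := IsLocalization.isPrime_of_isPrime_disjoint M _ p inferInstance hdisj
  have hcomap : P.comap (algebraMap B Bq) = p :=
    IsLocalization.comap_map_of_isPrime_disjoint M _ inferInstance hdisj
  haveI : IsLocalization.AtPrime (Localization.AtPrime P) p := by
    have h1 := IsLocalization.isLocalization_isLocalization_atPrime_isLocalization M
      (Localization.AtPrime P) P
    simp only [IsLocalization.AtPrime, Ideal.primeCompl, hcomap] at h1 ⊢
    exact h1
  exact IsRegularLocalRing.of_ringEquiv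
    (IsLocalization.algEquiv p.primeCompl (Localization.AtPrime P) (Localization.AtPrime p)).toRingEquiv

/-- Smooth morphisms preserve regularity of the local rings. -/
theorem isRegularLocalRing_stalk {Y X : Scheme.{u}} (f : Y ⟶ X) [Smooth f] (y : Y)
    [IsRegularLocalRing (X.presheaf.stalk (f y))] : IsRegularLocalRing (Y.presheaf.stalk y) := by
  obtain ⟨V, hV, hfy, -⟩ := exists_isAffineOpen_mem_and_subset (x := f y) (U := ⊤) trivial
  obtain ⟨U, hU, hyU, hUV⟩ :=
    exists_isAffineOpen_mem_and_subset (x := y) (U := f ⁻¹ᵁ V) hfy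
  replace hUV : U ≤ f ⁻¹ᵁ V := hUV
  have hs := HasRingHomProperty.appLE @Smooth f inferInstance ⟨V, hV⟩ ⟨U, hU⟩ hUV
  algebraize [(f.appLE V U hUV).hom]
  have : Algebra.Smooth Γ(X, V) Γ(Y, U) := RingHom.smooth_algebraMap.1 hs
  letI := Y.presheaf.algebra_section_stalk ⟨y, hyU⟩
  haveI := hU.isLocalization_stalk ⟨y, hyU⟩
  letI := X.presheaf.algebra_section_stalk ⟨f y, hfy⟩
  haveI := hV.isLocalization_stalk ⟨f y, hfy⟩
  let p := (hU.primeIdealOf ⟨y, hyU⟩).asIdeal
  have hp : (hV.primeIdealOf ⟨f y, hfy⟩).asIdeal = p.comap (algebraMap Γ(X, V) Γ(Y, U)) := by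
    rw [← IsLocalization.AtPrime.under_maximalIdeal (X.presheaf.stalk (f y))
        (hV.primeIdealOf ⟨f y, hfy⟩).asIdeal,
      show p = _ from (IsLocalization.AtPrime.under_maximalIdeal (Y.presheaf.stalk y) p).symm]
    ext a
    show X.presheaf.germ V (f y) hfy a ∈ IsLocalRing.maximalIdeal _ ↔
      Y.presheaf.germ U y hyU ((f.appLE V U hUV).hom a) ∈ IsLocalRing.maximalIdeal _
    rw [Scheme.Hom.appLE, CommRingCat.hom_comp, RingHom.comp_apply, TopCat.Presheaf.germ_res_apply,
      ← Scheme.Hom.germ_stalkMap_apply f V y hfy]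
    simp only [IsLocalRing.mem_maximalIdeal, mem_nonunits_iff]
    exact not_congr (isUnit_map_iff (f.stalkMap y).hom _).symm
  haveI : IsLocalization.AtPrime (X.presheaf.stalk (f y))
      (p.comap (algebraMap Γ(X, V) Γ(Y, U))) := by
    have h := hV.isLocalization_stalk ⟨f y, hfy⟩
    simp only [hp] at h
    exact h
  haveI : IsRegularLocalRing (Localization.AtPrime (p.comap (algebraMap Γ(X, V) Γ(Y, U)))) :=
    IsRegularLocalRing.of_ringEquiv (IsLocalization.algEquiv
      (p.comap (algebraMap Γ(X, V) Γ(Y, U))).primeCompl (X.presheaf.stalk (f y))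
      (Localization.AtPrime (p.comap (algebraMap Γ(X, V) Γ(Y, U))))).toRingEquiv
  haveI := isRegularLocalRing_of_smooth Γ(X, V) Γ(Y, U) p
  exact IsRegularLocalRing.of_ringEquiv
    (IsLocalization.algEquiv p.primeCompl (Localization.AtPrime p) (Y.presheaf.stalk y)).toRingEquiv

/-- The stalk map of a closed subscheme: surjective, kernel the germs of the ideal. -/
theorem stalkMap_subschemeι {X : Scheme.{u}} (I : X.IdealSheafData) (z : I.subscheme)
    (U : X.affineOpens) (hz : I.subschemeι z ∈ U.1) :
    Function.Surjective (I.subschemeι.stalkMap z).hom ∧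
      RingHom.ker (I.subschemeι.stalkMap z).hom =
        (I.ideal U).map (X.presheaf.germ U.1 (I.subschemeι z) hz).hom := by
  refine ⟨I.subschemeι.stalkMap_surjective z, le_antisymm ?_ ?_⟩
  · intro a ha
    letI := X.presheaf.algebra_section_stalk ⟨I.subschemeι z, hz⟩
    haveI := U.2.isLocalization_stalk ⟨I.subschemeι z, hz⟩
    have hW : IsAffineOpen (I.subschemeι ⁻¹ᵁ U.1) := U.2.preimage I.subschemeι
    letI := I.subscheme.presheaf.algebra_section_stalk
      (U := I.subschemeι ⁻¹ᵁ U.1) ⟨z, hz⟩
    haveI := hW.isLocalization_stalk ⟨z, hz⟩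
    obtain ⟨⟨b, s⟩, rfl⟩ := IsLocalization.mk'_surjective
      (U.2.primeIdealOf ⟨I.subschemeι z, hz⟩).asIdeal.primeCompl a
    rw [RingHom.mem_ker] at ha
    have hb : (I.subschemeι.stalkMap z).hom (X.presheaf.germ U.1 _ hz b) = 0 := by
      have h1 := IsLocalization.mk'_spec (X.presheaf.stalk (I.subschemeι z)) b s
      change _ = X.presheaf.germ U.1 _ hz b at h1
      rw [← h1, map_mul, ha, zero_mul]
    rw [Scheme.Hom.germ_stalkMap_apply] at hb
    obtain ⟨t, ht⟩ := (IsLocalization.map_eq_zero_iff
      (hW.primeIdealOf ⟨z, hz⟩).asIdeal.primeCompl (I.subscheme.presheaf.stalk z) _).1 hb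
    obtain ⟨t', ht'⟩ := I.subschemeι_app_surjective U t.1
    have htu : IsUnit (X.presheaf.germ U.1 (I.subschemeι z) hz t') := by
      refine (isUnit_map_iff (I.subschemeι.stalkMap z).hom _).1 ?_
      rw [Scheme.Hom.germ_stalkMap_apply]
      erw [ht']
      exact IsLocalization.map_units (I.subscheme.presheaf.stalk z) t
    have htb : t' * b ∈ I.ideal U := by
      rw [← I.ker_subschemeι_app U, RingHom.mem_ker, map_mul]
      erw [ht']; exact ht
    rw [← Ideal.unit_mul_mem_iff_mem _
      (IsLocalization.map_units (X.presheaf.stalk (I.subschemeι z)) s)]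
    rw [mul_comm]
    erw [IsLocalization.mk'_spec]
    rw [← Ideal.unit_mul_mem_iff_mem _ htu]
    exact (map_mul (X.presheaf.germ U.1 (I.subschemeι z) hz).hom t' b) ▸ Ideal.mem_map_of_mem _ htb
  · rw [Ideal.map_le_iff_le_comap]
    intro b hb
    rw [Ideal.mem_comap, RingHom.mem_ker, Scheme.Hom.germ_stalkMap_apply]
    rw [← I.ker_subschemeι_app U, RingHom.mem_ker] at hb
    erw [hb]
    rw [map_zero]

end Groth.L11.SmRegular
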